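import Mathlib
import Groth.Agent.Lib.Helper7.Hensel.FiniteDecompMain

set_option linter.style.haveILetI false
set_option linter.unusedVariables false
set_option linter.unusedSectionVars false
set_option autoImplicit false
set_option synthInstance.maxHeartbeats 400000
set_option maxHeartbeats 1600000

universe u

/-! helper7: counting lemmas for extended natural cardinalities and connected components; the number of points of the spectrum of a finite algebra over a field base changed to an algebraic extension is attained over a finite subextension -/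

open TensorProduct

namespace Groth.Agent.Helper7.LSC

section Card

theorem exists_injective_of_le_card {α : Type*} (m : ℕ) (h : (m : ℕ∞) ≤ ENat.card α) :
    ∃ f : Fin m → α, Function.Injective f := by
  rcases finite_or_infinite α with hfin | hinf
  · haveI := Fintype.ofFinite α
    rw [ENat.card_eq_coe_fintype_card] at h
    have h' : m ≤ Fintype.card α := by exact_mod_cast h
    have h'' : Fintype.card (Fin m) ≤ Fintype.card α := by rwa [Fintype.card_fin]
    obtain ⟨e⟩ := Function.Embedding.nonempty_of_card_le h''
    exact ⟨e, e.injective⟩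
  · exact ⟨fun i => Infinite.natEmbedding α i.1,
      fun i j hij => Fin.ext ((Infinite.natEmbedding α).injective hij)⟩

theorem le_card_of_injective {α : Type*} (m : ℕ) (f : Fin m → α) (hf : Function.Injective f) :
    (m : ℕ∞) ≤ ENat.card α := by
  have h := ENat.card_le_card_of_injective hf
  rwa [ENat.card_eq_coe_fintype_card, Fintype.card_fin] at h

end Card

section Topo

variable {α β : Type*} [TopologicalSpace α] [TopologicalSpace β]

/-- points in pairwise distinct connected components give a lower bound for the number of
connected components -/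
theorem le_card_connectedComponents (m : ℕ) (p : Fin m → α)
    (hp : ∀ i j, connectedComponent (p i) = connectedComponent (p j) → i = j) :
    (m : ℕ∞) ≤ ENat.card (ConnectedComponents α) := by
  refine le_card_of_injective m (fun i => (p i : ConnectedComponents α)) ?_
  intro i j hij
  exact hp i j (ConnectedComponents.coe_eq_coe.mp hij)

theorem exists_points_of_le_card (m : ℕ) (h : (m : ℕ∞) ≤ ENat.card (ConnectedComponents α)) :
    ∃ p : Fin m → α, ∀ i j, connectedComponent (p i) = connectedComponent (p j) → i = j := by
  obtain ⟨f, hf⟩ := exists_injective_of_le_card m h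
  choose p hp using fun i => ConnectedComponents.surjective_coe (f i)
  refine ⟨p, fun i j hij => hf ?_⟩
  rw [← hp i, ← hp j]
  exact ConnectedComponents.coe_eq_coe.mpr hij

theorem card_connectedComponents_le_of_leftInverse (a : α → β) (b : β → α) (ha : Continuous a)
    (hb : Continuous b) (hab : Function.LeftInverse b a) :
    ENat.card (ConnectedComponents α) ≤ ENat.card (ConnectedComponents β) := by
  refine ENat.card_le_card_of_injective (f := ha.connectedComponentsMap) ?_
  refine Function.LeftInverse.injective (g := hb.connectedComponentsMap) ?_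
  intro c
  obtain ⟨x, rfl⟩ := ConnectedComponents.surjective_coe c
  rw [Continuous.connectedComponentsMap_mk, Continuous.connectedComponentsMap_mk, hab x]

end Topo

section Tensor

variable {k : Type u} [Field k] (C : Type u) [CommRing C] [Algebra k C]
  {K : Type u} [Field K] [Algebra k K]

/-- the canonical map `E ⊗ C → K ⊗ C` for an intermediate field `E` -/
noncomputable abbrev tm (E : IntermediateField k K) : ↥E ⊗[k] C →ₐ[k] K ⊗[k] C :=
  Algebra.TensorProduct.map E.val (AlgHom.id k C)

theorem tm_injective (E : IntermediateField k K) : Function.Injective (tm C E) := by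
  have h1 := TensorProduct.map_injective_of_flat_flat E.val.toLinearMap
    (LinearMap.id : C →ₗ[k] C) Subtype.val_injective Function.injective_id
  have h2 : (tm C E).toLinearMap =
      TensorProduct.map E.val.toLinearMap (LinearMap.id : C →ₗ[k] C) := by
    ext p q
    simp [tm]
  intro p q hpq
  apply h1
  rw [← h2]
  exact hpq

theorem tm_range_mono {E E' : IntermediateField k K} (hle : E ≤ E') :
    (tm C E).range ≤ (tm C E').range := by
  rintro _ ⟨x, rfl⟩
  refine ⟨Algebra.TensorProduct.map (IntermediateField.inclusion hle) (AlgHom.id k C) x, ?_⟩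
  have : (tm C E').comp (Algebra.TensorProduct.map (IntermediateField.inclusion hle)
      (AlgHom.id k C)) = tm C E := by
    ext a
    · simp [tm]
    · simp [tm]
  exact DFunLike.congr_fun this x

theorem exists_mem_range [Algebra.IsAlgebraic k K] (x : K ⊗[k] C) :
    ∃ E : IntermediateField k K, FiniteDimensional k E ∧ x ∈ (tm C E).range := by
  induction x using TensorProduct.induction_on with
  | zero => exact ⟨⊥, inferInstance, zero_mem _⟩
  | tmul c a =>
    refine ⟨IntermediateField.adjoin k {c},
      IntermediateField.adjoin.finiteDimensional (Algebra.IsIntegral.isIntegral c), ?_⟩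
    exact ⟨(⟨c, IntermediateField.mem_adjoin_simple_self k c⟩ :
      ↥(IntermediateField.adjoin k {c})) ⊗ₜ a, by simp [tm]⟩
  | add x y hx hy =>
    obtain ⟨L₁, h1, hx⟩ := hx
    obtain ⟨L₂, h2, hy⟩ := hy
    refine ⟨L₁ ⊔ L₂, IntermediateField.finiteDimensional_sup L₁ L₂, ?_⟩
    exact add_mem (tm_range_mono C le_sup_left hx) (tm_range_mono C le_sup_right hy)

theorem exists_mem_range_fin [Algebra.IsAlgebraic k K] (m : ℕ) (x : Fin m → K ⊗[k] C) :
    ∃ E : IntermediateField k K, FiniteDimensional k E ∧ ∀ i, x i ∈ (tm C E).range := by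
  induction m with
  | zero => exact ⟨⊥, inferInstance, fun i => i.elim0⟩
  | succ n ih =>
    obtain ⟨L₁, h1, hL₁⟩ := ih (fun i => x i.castSucc)
    obtain ⟨L₂, h2, hL₂⟩ := exists_mem_range C (x (Fin.last n))
    refine ⟨L₁ ⊔ L₂, IntermediateField.finiteDimensional_sup L₁ L₂, fun i => ?_⟩
    rcases Fin.eq_castSucc_or_eq_last i with ⟨j, rfl⟩ | rfl
    · exact tm_range_mono C le_sup_left (hL₁ j)
    · exact tm_range_mono C le_sup_right hL₂

/-- **the number of points of `Spec (K ⊗ C)` is attained over a finite subextension** -/
theorem exists_finite_level_alg [Module.Finite k C] [Algebra.IsAlgebraic k K] (m : ℕ)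
    (hm : (m : ℕ∞) ≤ ENat.card (PrimeSpectrum (K ⊗[k] C))) :
    ∃ E : IntermediateField k K, FiniteDimensional k E ∧
      (m : ℕ∞) ≤ ENat.card (PrimeSpectrum (↥E ⊗[k] C)) := by
  classical
  obtain ⟨p, hp⟩ := exists_injective_of_le_card m hm
  haveI : Module.Finite K (K ⊗[k] C) := inferInstance
  haveI : IsArtinianRing (K ⊗[k] C) := IsArtinianRing.of_finite K _
  haveI hfinM : Finite (MaximalSpectrum (K ⊗[k] C)) :=
    Groth.Agent.Helper7.Hensel.finite_maximalSpectrum K (K ⊗[k] C)
  letI : Fintype (MaximalSpectrum (K ⊗[k] C)) := Fintype.ofFinite _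
  obtain ⟨e, he, h1, h2, -⟩ := Groth.Agent.Helper7.Hensel.exists_idempotents_local K (K ⊗[k] C)
  have hmax : ∀ i, (p i).asIdeal.IsMaximal := fun i =>
    haveI := (p i).isPrime
    IsArtinianRing.isMaximal_of_isPrime (p i).asIdeal
  let M : Fin m → MaximalSpectrum (K ⊗[k] C) := fun i => ⟨(p i).asIdeal, hmax i⟩
  have hMinj : Function.Injective M := by
    intro i j hij
    apply hp
    apply PrimeSpectrum.ext
    exact congrArg MaximalSpectrum.asIdeal hij
  obtain ⟨E, hE, hrange⟩ := exists_mem_range_fin C m (fun i => e (M i))
  choose y hy0 using hrange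
  have hy : ∀ i, tm C E (y i) = e (M i) := hy0
  refine ⟨E, hE, ?_⟩
  have hinj := tm_injective C E
  have hidem : ∀ i, y i * y i = y i := by
    intro i
    apply hinj
    rw [map_mul, hy]
    exact (he.idem (M i)).eq
  have hortho : ∀ i j, i ≠ j → y i * y j = 0 := by
    intro i j hij
    apply hinj
    rw [map_mul, hy, hy, map_zero]
    exact he.ortho (fun h => hij (hMinj h))
  have hne : ∀ i, y i ≠ 0 := by
    intro i h0
    have h3 : e (M i) = 0 := by rw [← hy i, h0, map_zero]
    have h4 := h1 (M i)
    rw [h3, sub_zero] at h4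
    exact (hmax i).ne_top ((Ideal.eq_top_iff_one _).mpr h4)
  have hnu : ∀ i, (1 - y i) ∈ nonunits (↥E ⊗[k] C) := by
    intro i
    rw [mem_nonunits_iff]
    intro hu
    apply hne i
    have h3 : y i * (1 - y i) = 0 := by rw [mul_sub, mul_one, hidem, sub_self]
    obtain ⟨v, hv⟩ := hu.exists_right_inv
    calc y i = y i * ((1 - y i) * v) := by rw [hv, mul_one]
      _ = (y i * (1 - y i)) * v := by ring
      _ = 0 := by rw [h3, zero_mul]
  choose P hPmax hP using fun i => exists_max_ideal_of_mem_nonunits (α := ↥E ⊗[k] C) (hnu i)
  refine le_card_of_injective m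
    (fun i => (⟨P i, (hPmax i).isPrime⟩ : PrimeSpectrum (↥E ⊗[k] C))) ?_
  intro i j hij
  by_contra hne'
  have hPij : P i = P j := congrArg PrimeSpectrum.asIdeal hij
  have h3 : y j ∈ P i := by
    have h4 : y j = y j * (1 - y i) := by
      rw [mul_sub, mul_one, mul_comm (y j) (y i), hortho i j hne', sub_zero]
    rw [h4]
    exact Ideal.mul_mem_left _ _ (hP i)
  have h5 : (1 - y j) ∈ P i := hPij ▸ hP j
  have h6 : (1 : ↥E ⊗[k] C) ∈ P i := by
    have h7 := Ideal.add_mem _ h3 h5
    rwa [add_sub_cancel] at h7
  exact (hPmax i).ne_top ((Ideal.eq_top_iff_one _).mpr h6)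

end Tensor

end Groth.Agent.Helper7.LSC
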