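import Mathlib
import Groth.Prelude.Def_MoreMor
import Groth.Agent.Lib.Helper7.LSC.Alg
import Groth.Agent.Lib.Helper7.GeomConn.SteinFibre
import Groth.Agent.Lib.Helper7.GeomConn.CompCount
import Groth.Agent.Lib.Helper7.GeomConn.Main
import Groth.Agent.S1354

set_option linter.style.haveILetI false
set_option linter.unusedVariables false
set_option linter.unusedSectionVars false
set_option autoImplicit false
set_option backward.isDefEq.respectTransparency.types false
set_option synthInstance.maxHeartbeats 400000
set_option maxHeartbeats 1600000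

universe u

/-! helper7: for a proper flat morphism to a locally Noetherian scheme, the number of geometric connected components of the nearby fibres is at least the number of connected components of the given fibre (through the Stein factorization and the local structure of finite morphisms over elementary étale neighbourhoods) -/

open CategoryTheory CategoryTheory.Limits AlgebraicGeometry TopologicalSpace Opposite

namespace Groth.Agent.Helper7.LSC

open Groth.Agent.Helper7.GeomConn

section Core

variable {X S : Scheme.{u}} (f : X ⟶ S) [IsProper f] [Flat f] [IsLocallyNoetherian S]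


theorem core (s : S) (m : ℕ)
    (hm : (m : ℕ∞) ≤ ENat.card (_root_.ConnectedComponents ↥(f.fiber s))) :
    ∃ O : S.Opens, s ∈ O ∧ ∀ t ∈ O, (m : ℕ∞) ≤ MoreMor.nGeomConnComp f t := by
  classical
  haveI : LocallyOfFinitePresentation f := inferInstance
  have hfac : f.toNormalization ≫ f.fromNormalization = f := f.toNormalization_fromNormalization
  haveI hnufin : IsFinite f.fromNormalization := ZC.isFinite_fromNormalization' f
  haveI : IsProper f.toNormalization := ZC.isProper_toNormalization f
  haveI : Surjective f.toNormalization := inferInstance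
  obtain ⟨hfinfib, hφsurj, hφcc⟩ := ZC.stein_fibre f s
  obtain ⟨p, hp⟩ := exists_points_of_le_card m hm
  -- the points of the fibre of the finite part
  let z : Fin m → ↥(f.fromNormalization.fiber s) := fun i =>
    (CohIII.fiberMapOver f.toNormalization f f.fromNormalization f.toNormalization_fromNormalization s).base (p i)
  have hz : Function.Injective z := by
    intro i j hij
    exact hp i j ((hφcc (p i) (p j)).mp hij)
  let x : Fin m → ↥f.normalization := fun i => f.fromNormalization.fiberι s (z i)
  have hxinj : Function.Injective x := fun i j hij =>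
    hz ((f.fromNormalization.fiberι s).isEmbedding.injective hij)
  have hxs : ∀ i, f.fromNormalization (x i) = s := by
    intro i
    have h1 : x i ∈ Set.range (f.fromNormalization.fiberι s) := ⟨z i, rfl⟩
    rw [f.fromNormalization.range_fiberι] at h1
    exact h1
  have hqf : ∀ i, f.fromNormalization.QuasiFiniteAt (x i) := fun i => f.fromNormalization.quasiFiniteAt (x i)
  obtain ⟨U, g, u, hnb, V, v, hV⟩ := Groth.Agent.S1354.result f.fromNormalization s x hxs hqf
  haveI : Etale g := hnb.etale
  have hgu : g u = s := hnb.base_eq
  haveI : IsFinite (pullback.snd f.fromNormalization g) := inferInstance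
  -- the opens `V i` are closed
  have hVcl : ∀ i, IsClosed ((V i : (pullback f.fromNormalization g).Opens) : Set ↥(pullback f.fromNormalization g)) := by
    intro i
    haveI : IsFinite ((V i).ι ≫ pullback.snd f.fromNormalization g) := (hV i).2.1
    haveI : IsProper ((V i).ι ≫ pullback.snd f.fromNormalization g) := inferInstance
    haveI : IsProper (V i).ι := IsProper.of_comp (V i).ι (pullback.snd f.fromNormalization g)
    have h1 := (V i).ι.isClosedMap.isClosed_range
    rwa [Scheme.Opens.range_ι] at h1
  -- the bad closed set
  let C : Set ↥U := ⋃ q : {q : Fin m × Fin m // q.1 ≠ q.2},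
    (pullback.snd f.fromNormalization g) '' (((V q.1.1 : (pullback f.fromNormalization g).Opens) : Set ↥(pullback f.fromNormalization g)) ∩
      ((V q.1.2 : (pullback f.fromNormalization g).Opens) : Set ↥(pullback f.fromNormalization g)))
  have hCcl : IsClosed C := by
    refine isClosed_iUnion_of_finite fun q => ?_
    exact (pullback.snd f.fromNormalization g).isClosedMap _ ((hVcl _).inter (hVcl _))
  have huC : u ∉ C := by
    intro hu
    obtain ⟨q, w, ⟨hw1, hw2⟩, hwu⟩ := Set.mem_iUnion.mp hu
    have e1 := (hV q.1.1).2.2.2.1 w hw1 hwu
    have e2 := (hV q.1.2).2.2.2.1 w hw2 hwu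
    apply q.2
    apply hxinj
    rw [← (hV q.1.1).2.2.2.2.1, ← (hV q.1.2).2.2.2.2.1, ← e1, ← e2]
  -- base change of `X`
  let hU : pullback f g ⟶ pullback f.fromNormalization g :=
    pullback.lift (pullback.fst f g ≫ f.toNormalization) (pullback.snd f g)
      (by rw [Category.assoc, hfac]; exact pullback.condition)
  have hU_fst : hU ≫ pullback.fst f.fromNormalization g = pullback.fst f g ≫ f.toNormalization := pullback.lift_fst _ _ _
  have hU_snd : hU ≫ pullback.snd f.fromNormalization g = pullback.snd f g := pullback.lift_snd _ _ _
  have hsq : IsPullback hU (pullback.fst f g) (pullback.fst f.fromNormalization g) f.toNormalization := by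
    refine IsPullback.of_right ?_ hU_fst (IsPullback.of_hasPullback f.fromNormalization g).flip
    rw [hU_snd, hfac]
    exact (IsPullback.of_hasPullback f g).flip
  haveI : Surjective hU :=
    MorphismProperty.of_isPullback (P := @Surjective) hsq.flip inferInstance
  haveI : Flat (pullback.snd f g) := inferInstance
  haveI : IsProper (pullback.snd f g) := inferInstance
  haveI : LocallyOfFinitePresentation (pullback.snd f g) := inferInstance
  have hb_apply : ∀ w : ↥(pullback f g), pullback.snd f.fromNormalization g (hU w) = pullback.snd f g w := by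
    intro w
    rw [← Scheme.Hom.comp_apply, hU_snd]
  -- the opens `W i`
  let W : Fin m → (pullback f g).Opens := fun i => hU ⁻¹ᵁ (V i)
  have hWcl : ∀ i, IsClosed ((W i : (pullback f g).Opens) : Set ↥(pullback f g)) := fun i =>
    (hVcl i).preimage hU.continuous
  have himg : ∀ i, IsOpen ((pullback.snd f g) '' ((W i : (pullback f g).Opens) :
      Set ↥(pullback f g))) := fun i => (pullback.snd f g).isOpenMap _ (W i).2
  have hu_img : ∀ i, u ∈ (pullback.snd f g) '' ((W i : (pullback f g).Opens) :
      Set ↥(pullback f g)) := by
    intro i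
    obtain ⟨w, hw⟩ := hU.surjective (v i)
    refine ⟨w, ?_, ?_⟩
    · show hU w ∈ V i
      rw [hw]
      exact (hV i).1
    · rw [← hb_apply, hw]
      exact (hV i).2.2.1
  let O' : Set ↥U := Cᶜ ∩ ⋂ i, (pullback.snd f g) '' ((W i : (pullback f g).Opens) :
      Set ↥(pullback f g))
  have hO'open : IsOpen O' := hCcl.isOpen_compl.inter (isOpen_iInter_of_finite himg)
  have huO' : u ∈ O' := ⟨huC, Set.mem_iInter.mpr hu_img⟩
  have hgopen : IsOpen (g '' O') := g.isOpenMap _ hO'open
  refine ⟨⟨g '' O', hgopen⟩, ⟨u, huO', hgu⟩, ?_⟩
  rintro t ⟨t', ht', rfl⟩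
  rw [← nGeomConnComp_baseChange f (pullback.snd f g) (pullback.fst f g) g
    (IsPullback.of_hasPullback f g) t']
  -- points of the geometric fibre over `t'`
  unfold MoreMor.nGeomConnComp MoreMor.geomFiber
  set fU := pullback.snd f g with hfU
  set qt := fU.fiberToSpecResidueField t' with hqt
  set it := Spec.map (CommRingCat.ofHom (algebraMap (U.residueField t')
    (SeparableClosure (U.residueField t')))) with hit
  haveI : Surjective it := surjective_to_spec_field _
  haveI : Surjective (pullback.fst qt it) := inferInstance
  have hex : ∀ i, ∃ P : ↥(pullback qt it),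
      (fU.fiberι t') (pullback.fst qt it P) ∈ W i := by
    intro i
    have h1 : t' ∈ fU '' ((W i : (pullback f g).Opens) : Set ↥(pullback f g)) :=
      Set.mem_iInter.mp ht'.2 i
    obtain ⟨w, hw, hwt⟩ := h1
    have h2 : w ∈ Set.range (fU.fiberι t') := by
      rw [fU.range_fiberι]
      exact hwt
    obtain ⟨y, rfl⟩ := h2
    obtain ⟨P, rfl⟩ := (pullback.fst qt it).surjective y
    exact ⟨P, hw⟩
  choose P hP using hex
  refine le_card_connectedComponents m P ?_
  intro i j hij
  by_contra hne
  -- the clopen preimage of `W i`
  let γ : ↥(pullback qt it) → ↥(pullback f g) := fun Q => (fU.fiberι t') (pullback.fst qt it Q)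
  have hγ : Continuous γ := (fU.fiberι t').continuous.comp (pullback.fst qt it).continuous
  have hclopen : IsClopen (γ ⁻¹' ((W i : (pullback f g).Opens) : Set ↥(pullback f g))) :=
    ⟨(hWcl i).preimage hγ, (W i).2.preimage hγ⟩
  have h1 : connectedComponent (P i) ⊆ γ ⁻¹' ((W i : (pullback f g).Opens) :
      Set ↥(pullback f g)) := hclopen.connectedComponent_subset (hP i)
  have h2 : P j ∈ connectedComponent (P i) :=
    (Set.ext_iff.mp hij (P j)).mpr mem_connectedComponent
  have h3 : γ (P j) ∈ W i := h1 h2
  have h4 : γ (P j) ∈ W j := hP j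
  have h5 : fU (γ (P j)) = t' := by
    have h6 : γ (P j) ∈ Set.range (fU.fiberι t') := ⟨_, rfl⟩
    rw [fU.range_fiberι] at h6
    exact h6
  apply ht'.1
  refine Set.mem_iUnion.mpr ⟨⟨(i, j), hne⟩, hU (γ (P j)), ⟨h3, h4⟩, ?_⟩
  rw [hb_apply]
  exact h5

end Core

end Groth.Agent.Helper7.LSC
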