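import Mathlib
import Groth.Agent.Lib.Helper7.LSC.Alg
import Groth.Agent.Lib.Helper7.EtH0.Count
import Groth.Agent.Lib.Helper7.GeomConn.GlobSec

set_option linter.style.haveILetI false
set_option linter.unusedVariables false
set_option linter.unusedSectionVars false
set_option autoImplicit false
set_option backward.isDefEq.respectTransparency.types false
set_option synthInstance.maxHeartbeats 400000
set_option maxHeartbeats 1600000

universe u

/-! helper7: the number of connected components of a proper scheme over a field after an algebraic extension of the field is attained over a finite subextension -/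

open CategoryTheory CategoryTheory.Limits AlgebraicGeometry TopologicalSpace Opposite TensorProduct

namespace Groth.Agent.Helper7.LSC

open Groth.Agent.Helper7.GeomConn

section Field

variable (k : Type u) [Field k] {Z : Scheme.{u}} (q : Z ⟶ Spec (CommRingCat.of k)) [IsProper q]

/-- connected components of a base change of a proper scheme over a field correspond to the
points of the spectrum of the base-changed algebra of global functions -/
theorem card_connectedComponents_eq (F : Type u) [Field F] [Algebra k F] :
    letI := (toΓ k Z q).toAlgebra
    ENat.card (_root_.ConnectedComponents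
        ↥(pullback q (Spec.map (CommRingCat.ofHom (algebraMap k F))))) =
      ENat.card (PrimeSpectrum (F ⊗[k] Γ(Z, ⊤))) := by
  letI := (toΓ k Z q).toAlgebra
  haveI : IsProper (pullback.snd q (Spec.map (CommRingCat.ofHom (algebraMap k F)))) :=
    inferInstance
  obtain ⟨E1⟩ := Groth.Agent.Helper7.EtH0.nonempty_connectedComponents_equiv_primeSpectrum
    (pullback.snd q (Spec.map (CommRingCat.ofHom (algebraMap k F))))
  obtain ⟨E2⟩ := exists_algEquiv_baseChange k Z q F
  rw [ENat.card_congr E1]
  exact (ENat.card_congr (PrimeSpectrum.comapEquiv E2).toEquiv).symm

/-- **the number of connected components over an algebraic extension is attained over a finite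
subextension** -/
theorem exists_finite_level (K : Type u) [Field K] [Algebra k K] [Algebra.IsAlgebraic k K]
    (m : ℕ)
    (hm : (m : ℕ∞) ≤ ENat.card (_root_.ConnectedComponents
      ↥(pullback q (Spec.map (CommRingCat.ofHom (algebraMap k K)))))) :
    ∃ E : IntermediateField k K, FiniteDimensional k E ∧
      (m : ℕ∞) ≤ ENat.card (_root_.ConnectedComponents
        ↥(pullback q (Spec.map (CommRingCat.ofHom (algebraMap k ↥E))))) := by
  letI := (toΓ k Z q).toAlgebra
  haveI : Module.Finite k Γ(Z, ⊤) := finite_globalSections k Z q
  rw [card_connectedComponents_eq k q K] at hm
  obtain ⟨E, hE, hmE⟩ := exists_finite_level_alg Γ(Z, ⊤) m hm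
  refine ⟨E, hE, ?_⟩
  rw [card_connectedComponents_eq k q ↥E]
  exact hmE

end Field

end Groth.Agent.Helper7.LSC
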