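import Mathlib
import Groth.Prelude.Def_MoreMor
import Groth.Agent.Lib.Helper7.LSC.Alg
import Groth.Agent.Lib.Helper7.LSC.Field
import Groth.Agent.Lib.Helper7.LSC.Core
import Groth.Agent.Lib.Helper7.GeomConn.CompCount
import Groth.Agent.Lib.Helper7.GeomConn.EtNbhd
import Groth.Agent.Lib.Helper7.EtH0.UnitModel
import Groth.Agent.Lib.Helper4.ChartSq1
import Groth.Agent.S9734

set_option linter.style.haveILetI false
set_option linter.unusedVariables false
set_option linter.unusedSectionVars false
set_option autoImplicit false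
set_option backward.isDefEq.respectTransparency.types false
set_option synthInstance.maxHeartbeats 400000
set_option maxHeartbeats 1600000

universe u

/-! helper7: lower semicontinuity of the number of geometric connected components of the fibres of a proper flat finitely presented morphism (finite level of the components, étale neighbourhoods with prescribed residue field, the Noetherian core, and Noetherian approximation of the base) -/

open CategoryTheory CategoryTheory.Limits AlgebraicGeometry TopologicalSpace Opposite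

namespace Groth.Agent.Helper7.LSC

open Groth.Agent.Helper7.GeomConn
open Groth.Agent.Helper1.RpushLoc
open Groth.Agent.Helper7.GenBC

/-- flatness of the structure sheaf over the base gives flatness of the morphism -/
theorem flat_of_isFlatOver_structureModule {X S : Scheme.{u}} (f : X ⟶ S)
    (h : FlatMod.IsFlatOver f (Coh.structureModule X)) : Flat f := by
  rw [Flat.iff_flat_stalkMap]
  intro x
  have hx := h x
  unfold FlatMod.IsFlatOverAt at hx
  letI alg : Algebra (S.presheaf.stalk (f.base x)) (X.presheaf.stalk x) :=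
    (f.stalkMap x).hom.toAlgebra
  letI := FlatMod.moduleStalkOver f (Coh.structureModule X) x
  let e : (X.presheaf.stalk x) ≃ₗ[X.presheaf.stalk x]
      ((Coh.structureModule X).presheaf.stalk x) :=
    (Groth.Agent.Lib.Helper5.StalkAdj.stalkUnitIso X x).toLinearEquiv
  let e' : (X.presheaf.stalk x) ≃ₗ[S.presheaf.stalk (f.base x)]
      ((Coh.structureModule X).presheaf.stalk x) :=
    { toFun := fun v => e v
      invFun := fun v => e.symm v
      left_inv := fun v => e.symm_apply_apply v
      right_inv := fun v => e.apply_symm_apply v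
      map_add' := fun v w => map_add e v w
      map_smul' := fun c v => e.map_smul ((f.stalkMap x).hom c) v }
  haveI : Module.Flat (S.presheaf.stalk (f.base x))
      ((Coh.structureModule X).presheaf.stalk x) := hx
  exact Module.Flat.of_linearEquiv e'

/-- the fibre over a point of an étale neighbourhood with residue field `E` has at least as many
connected components as the base change of the original fibre to `E` -/
theorem count_of_algEquiv {X S : Scheme.{u}} (f : X ⟶ S) {U : Scheme.{u}} (g : U ⟶ S) (u : U)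
    (s : S) (hu : g u = s) (E : Type u) [Field E] [Algebra (S.residueField s) E]
    (e : letI := ((S.residueFieldCongr hu).inv ≫ g.residueFieldMap u).hom.toAlgebra
      E ≃ₐ[S.residueField s] U.residueField u) (m : ℕ)
    (hm : (m : ℕ∞) ≤ ENat.card (_root_.ConnectedComponents
      ↥(pullback (f.fiberToSpecResidueField s)
        (Spec.map (CommRingCat.ofHom (algebraMap (S.residueField s) E)))))) :
    (m : ℕ∞) ≤ ENat.card (_root_.ConnectedComponents ↥((pullback.snd f g).fiber u)) := by
  subst hu
  have hpb := isPullback_fiberToSpecResidueField_of_isPullback (IsPullback.of_hasPullback f g) u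
  letI : Algebra (S.residueField (g u)) (U.residueField u) :=
    ((S.residueFieldCongr rfl).inv ≫ g.residueFieldMap u).hom.toAlgebra
  let ee : CommRingCat.of E ≅ CommRingCat.of (U.residueField u) :=
    e.toRingEquiv.toCommRingCatIso
  have hcomm : CommRingCat.ofHom (algebraMap (S.residueField (g u)) E) ≫ ee.hom =
      g.residueFieldMap u := by
    refine CommRingCat.hom_ext (RingHom.ext fun x => ?_)
    exact e.commutes x
  have hsq : IsPullback (Spec.map (g.residueFieldMap u)) (Spec.map ee.hom) (𝟙 _)
      (Spec.map (CommRingCat.ofHom (algebraMap (S.residueField (g u)) E))) := by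
    refine IsPullback.of_vert_isIso ⟨?_⟩
    rw [Category.comp_id, ← Spec.map_comp]
    exact congrArg Spec.map hcomm.symm
  have hbig := hpb.paste_vert hsq
  rw [Category.comp_id] at hbig
  let ι : (pullback.snd f g).fiber u ≅ pullback (f.fiberToSpecResidueField (g u))
      (Spec.map (CommRingCat.ofHom (algebraMap (S.residueField (g u)) E))) :=
    hbig.isoPullback
  refine le_trans hm ?_
  refine card_connectedComponents_le_of_leftInverse (fun z => ι.inv z) (fun z => ι.hom z)
    ι.inv.continuous ι.hom.continuous ?_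
  intro z
  show ι.hom (ι.inv z) = z
  rw [← Scheme.Hom.comp_apply, ι.inv_hom_id]; rfl

/-- lower semicontinuity of the number of geometric connected components over a locally
Noetherian base -/
theorem noeth {X S : Scheme.{u}} (f : X ⟶ S) [IsProper f] [Flat f] [IsLocallyNoetherian S]
    (s : S) (m : ℕ) (hm : (m : ℕ∞) ≤ MoreMor.nGeomConnComp f s) :
    ∃ O : S.Opens, s ∈ O ∧ ∀ t ∈ O, (m : ℕ∞) ≤ MoreMor.nGeomConnComp f t := by
  unfold MoreMor.nGeomConnComp MoreMor.geomFiber at hm
  haveI : IsProper (f.fiberToSpecResidueField s) :=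
    inferInstanceAs (IsProper (pullback.snd f (S.fromSpecResidueField s)))
  obtain ⟨E, hEfin, hmE⟩ := exists_finite_level (S.residueField s)
    (f.fiberToSpecResidueField s) (SeparableClosure (S.residueField s)) m hm
  haveI := hEfin
  haveI : Algebra.IsSeparable (S.residueField s) ↥E :=
    Algebra.isSeparable_tower_bot_of_isSeparable (S.residueField s) ↥E
      (SeparableClosure (S.residueField s))
  obtain ⟨U, g, u, hu, hg, ⟨e⟩⟩ := Groth.Agent.S9734.result S s ↥E
  haveI : Etale g := hg
  have h1 := count_of_algEquiv f g u s hu ↥E e m hmE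
  haveI : LocallyOfFiniteType g := inferInstance
  haveI : IsLocallyNoetherian U := LocallyOfFiniteType.isLocallyNoetherian g
  obtain ⟨O', huO', hO'⟩ := core (pullback.snd f g) u m h1
  refine ⟨⟨g '' (O' : Set U), g.isOpenMap _ O'.2⟩, ⟨u, huO', hu⟩, ?_⟩
  rintro _ ⟨t', ht', rfl⟩
  rw [← nGeomConnComp_baseChange f (pullback.snd f g) (pullback.fst f g) g
    (IsPullback.of_hasPullback f g) t']
  exact hO' t' ht'

/-- lower semicontinuity of the number of geometric connected components, pointwise form -/
theorem general {X S : Scheme.{u}} (f : X ⟶ S) [IsProper f] [Flat f]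
    [LocallyOfFinitePresentation f] (s : S) (m : ℕ)
    (hm : (m : ℕ∞) ≤ MoreMor.nGeomConnComp f s) :
    ∃ O : S.Opens, s ∈ O ∧ ∀ t ∈ O, (m : ℕ∞) ≤ MoreMor.nGeomConnComp f t := by
  obtain ⟨V₁, hV₁, hsV₁, M, hM⟩ := Groth.Agent.Helper7.EtH0.exists_chart_unit_nmodel f s
  have hsq := Groth.Agent.Lib.Helper4.ChartSq1.isPullback_chart f hV₁
  have hpb := M.hpb
  let f₀ : M.X₀ ⟶ Spec (CommRingCat.of M.A₀) := M.X₀ ↘ Spec (CommRingCat.of M.A₀)
  haveI : IsProper f₀ := M.prop
  have hfl0 : FlatMod.IsFlatOver f₀ (Coh.structureModule M.X₀) := by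
    have h := M.hflat
    rw [hM] at h
    exact h
  haveI : Flat f₀ := flat_of_isFlatOver_structureModule f₀ hfl0
  haveI : IsLocallyNoetherian (Spec (CommRingCat.of M.A₀)) := inferInstance
  let π : Spec (CommRingCat.of Γ(S, V₁)) ⟶ Spec (CommRingCat.of M.A₀) :=
    Spec.map (CommRingCat.ofHom M.j)
  have hcnt : ∀ τ : ↥(Spec (CommRingCat.of Γ(S, V₁))),
      MoreMor.nGeomConnComp f (hV₁.fromSpec τ) = MoreMor.nGeomConnComp f₀ (π τ) := by
    intro τ
    rw [← nGeomConnComp_baseChange f (strMap f hV₁) (f ⁻¹ᵁ V₁).ι hV₁.fromSpec hsq τ]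
    exact nGeomConnComp_baseChange f₀ (strMap f hV₁) M.q π hpb τ
  obtain ⟨σ, hσ⟩ : ∃ σ, hV₁.fromSpec σ = s := by
    have h : s ∈ Set.range hV₁.fromSpec := by
      rw [hV₁.range_fromSpec]
      exact hsV₁
    exact h
  have hm' : (m : ℕ∞) ≤ MoreMor.nGeomConnComp f₀ (π σ) := by
    rw [← hcnt σ, hσ]
    exact hm
  obtain ⟨O₀, hσO₀, hO₀⟩ := noeth f₀ (π σ) m hm'
  refine ⟨⟨hV₁.fromSpec '' ((π ⁻¹ᵁ O₀ : (Spec (CommRingCat.of Γ(S, V₁))).Opens) : Set _),
    hV₁.fromSpec.isOpenEmbedding.isOpenMap _ (π ⁻¹ᵁ O₀).2⟩, ⟨σ, hσO₀, hσ⟩, ?_⟩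
  rintro _ ⟨τ, hτ, rfl⟩
  rw [hcnt τ]
  exact hO₀ (π τ) hτ

/-- **lower semicontinuity of the number of geometric connected components of the fibres** of a
proper flat finitely presented morphism -/
theorem main {X S : Scheme.{u}} (f : X ⟶ S) [IsProper f] [Flat f]
    [LocallyOfFinitePresentation f] :
    LowerSemicontinuous (fun s : ↑S => MoreMor.nGeomConnComp f s) := by
  intro s a ha
  have hne : a ≠ ⊤ := ne_top_of_lt ha
  obtain ⟨m', rfl⟩ := ENat.ne_top_iff_exists.mp hne
  have hle : ((m' + 1 : ℕ) : ℕ∞) ≤ MoreMor.nGeomConnComp f s := by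
    have h := Order.add_one_le_of_lt ha
    rw [Nat.cast_add, Nat.cast_one]
    exact h
  obtain ⟨O, hsO, hO⟩ := general f s (m' + 1) hle
  refine Filter.eventually_of_mem (O.2.mem_nhds hsO) ?_
  intro t ht
  refine lt_of_lt_of_le ?_ (hO t ht)
  exact_mod_cast Nat.lt_succ_self m'

end Groth.Agent.Helper7.LSC
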